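import Cfsg.Agent.Lib.BlockBound51.Field
import Mathlib

/-!
# Class numbers of solvable affine groups

A solvable group acting faithfully on a space of dimension `n` over the field of `p` elements and
without nontrivial normal `p`-subgroups has an affine group with at most `p ^ n * 3 ^ (n - 1)`
classes.
-/

set_option autoImplicit false
set_option linter.style.haveILetI false
set_option maxHeartbeats 1000000

namespace CfsgLib.BlockBound51

open CfsgLib.ClassBound

variable (p : ℕ) [Fact p.Prime]

/-- The bound in dimension `n`. -/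
def AffBound (n : ℕ) : Prop :=
  ∀ (X : Type) [Group X] [Finite X] (V : Type) [AddCommGroup V] [Module (ZMod p) V] [Finite V]
    (ρ : X →* Module.End (ZMod p) V), Group.IsSolvable X → Function.Injective ρ → NoP p X →
      Module.finrank (ZMod p) V = n → 0 < n → 3 * affK ρ ≤ p ^ n * 3 ^ n

variable {p}

theorem affK_trivial {X : Type} [Group X] [Finite X] {V : Type} [AddCommGroup V]
    [Module (ZMod p) V] [Subsingleton V] (ρ : X →* Module.End (ZMod p) V)
    (hinj : Function.Injective ρ) : affK ρ ≤ 1 := by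
  haveI : Subsingleton X := ⟨fun a b => hinj (LinearMap.ext fun v => Subsingleton.elim _ _)⟩
  haveI : Subsingleton (Aff ρ) := ⟨fun a b => SemidirectProduct.ext
    (Multiplicative.toAdd.injective (Subsingleton.elim _ _)) (Subsingleton.elim _ _)⟩
  haveI : Finite (Aff ρ) := Finite.of_subsingleton
  exact (kbound_one_of_subsingleton (Aff ρ)).card_le

/-- The range of a restricted idempotent. -/
theorem finrank_range_restrict {V : Type} [AddCommGroup V] [Module (ZMod p) V] [Finite V]
    (U : Submodule (ZMod p) V) (e : Module.End (ZMod p) V) (h : ∀ v ∈ U, e v ∈ U)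
    (hr : ∀ v, e (e v) = e v) (hsub : ∀ v, e v ∈ U) :
    Module.finrank (ZMod p) (LinearMap.range (e.restrict h)) =
      Module.finrank (ZMod p) (LinearMap.range e) := by
  have hmap : (LinearMap.range (e.restrict h)).map U.subtype = LinearMap.range e := by
    apply le_antisymm
    · rintro _ ⟨_, ⟨u, rfl⟩, rfl⟩
      exact ⟨u, rfl⟩
    · rintro _ ⟨v, rfl⟩
      exact ⟨_, ⟨⟨e v, hsub v⟩, rfl⟩, hr v⟩
  rw [← hmap, Submodule.finrank_map_subtype_eq]

/-- A completely decomposed action: each part contributes one factor `3`. -/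
theorem multi {N : ℕ} (hN : ∀ m < N, AffBound p m) : ∀ (t : ℕ) (X : Type) [Group X] [Finite X]
    (V : Type) [AddCommGroup V] [Module (ZMod p) V] [Finite V] (ρ : X →* Module.End (ZMod p) V),
    Group.IsSolvable X → Function.Injective ρ → NoP p X →
    ∀ e : Fin t → Module.End (ZMod p) V, (∀ i, e i * e i = e i) → (∀ i j, i ≠ j → e i * e j = 0) →
      ∑ i, e i = 1 → (∀ g i, ρ g * e i = e i * ρ g) →
      (∀ i, 0 < Module.finrank (ZMod p) (LinearMap.range (e i)) ∧
        Module.finrank (ZMod p) (LinearMap.range (e i)) < N) →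
      (∀ i, ∀ P : Subgroup X, P.Normal → (∀ x ∈ P, ∃ l : ℕ, ρ (x ^ p ^ l) * e i = e i) →
        ∀ x ∈ P, ρ x * e i = e i) →
      3 ^ t * affK ρ ≤ p ^ Module.finrank (ZMod p) V * 3 ^ Module.finrank (ZMod p) V := by
  intro t
  induction t with
  | zero =>
    intro X _ _ V _ _ _ ρ _ hinj _ e _ _ hsum _ _ _
    haveI : Subsingleton V := ⟨fun a b => by
      have h : ∀ v : V, v = 0 := fun v => by
        simpa using (LinearMap.congr_fun hsum v).symm
      rw [h a, h b]⟩
    rw [pow_zero, one_mul]
    exact (affK_trivial ρ hinj).trans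
      (Nat.one_le_iff_ne_zero.2 (mul_ne_zero (pow_ne_zero _ (Fact.out : p.Prime).ne_zero)
        (pow_ne_zero _ (by norm_num))))
  | succ t ih =>
    intro X _ _ V _ _ _ ρ hsol hinj hnp e hee horth hsum hcomm hdim hfix
    haveI := hsol
    set j := Fin.last t with hj
    have hvv : ∀ i v, e i (e i v) = e i v := fun i v => by rw [← Module.End.mul_apply, hee]
    have hzero : ∀ i i', i ≠ i' → ∀ v, e i (e i' v) = 0 := fun i i' h v => by
      rw [← Module.End.mul_apply, horth i i' h, LinearMap.zero_apply]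
    have hcv : ∀ g i v, ρ g (e i v) = e i (ρ g v) := fun g i v => by
      rw [← Module.End.mul_apply, hcomm, Module.End.mul_apply]
    let U : Submodule (ZMod p) V := LinearMap.ker (e j)
    let π : V →ₗ[ZMod p] U := (1 - e j).codRestrict U fun v => by
      show e j (v - e j v) = 0
      rw [map_sub, hvv, sub_self]
    have hπ : ∀ v, ((π v : U) : V) = v - e j v := fun v => rfl
    have hπs : Function.Surjective π := fun u => ⟨u, Subtype.ext (by
      rw [hπ, show e j (u : V) = 0 from u.2, sub_zero])⟩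
    have hUinv : ∀ g ∈ (⊤ : Subgroup X), ∀ v ∈ U, ρ g v ∈ U := fun g _ v hv => by
      show e j (ρ g v) = 0
      rw [← hcv, show e j v = 0 from hv, map_zero]
    let ρU0 : X →* Module.End (ZMod p) U :=
      (resRep ρ ⊤ U hUinv).comp (Subgroup.topEquiv.symm.toMonoidHom)
    have hρU0 : ∀ g (u : U), ((ρU0 g u : U) : V) = ρ g u := fun g u => rfl
    set C := ρU0.ker with hC
    let ρ' := quotRep ρU0
    let W : Submodule (ZMod p) V := LinearMap.range (e j)
    have hWinv : ∀ g ∈ C, ∀ v ∈ W, ρ g v ∈ W := by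
      rintro g - _ ⟨v, rfl⟩
      exact ⟨ρ g v, (hcv g j v).symm⟩
    have hWker : W = LinearMap.ker π := by
      ext v
      rw [LinearMap.mem_ker, ← Subtype.coe_inj, hπ, Submodule.coe_zero, sub_eq_zero]
      exact ⟨by rintro ⟨w, rfl⟩; exact (hvv j w).symm, fun h => ⟨v, h.symm⟩⟩
    have hstep : affK ρ ≤ affK (resRep ρ C W hWinv) * affK ρ' := by
      refine affK_le_map ρ ρ' π hπs (QuotientGroup.mk' C) (QuotientGroup.mk'_surjective C)
        (fun g v => Subtype.ext ?_) W hWker C (QuotientGroup.ker_mk' C).symm _ (fun c w => rfl)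
      show ρ g v - e j (ρ g v) = ρ g (v - e j v)
      rw [map_sub, hcv]
    -- the part on `W`
    have hWinj : Function.Injective (resRep ρ C W hWinv) := by
      refine (injective_iff_map_eq_one _).2 fun c hc => Subtype.ext (hinj (LinearMap.ext fun v => ?_))
      have h1 : ρ (c : X) (e j v) = e j v :=
        congrArg Subtype.val (LinearMap.congr_fun hc ⟨e j v, v, rfl⟩)
      have h2 : ρ (c : X) (v - e j v) = v - e j v :=
        congrArg Subtype.val (LinearMap.congr_fun (MonoidHom.mem_ker.1 c.2) (π v))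
      rw [map_sub, h1] at h2
      rw [OneMemClass.coe_one, map_one, Module.End.one_apply]
      exact sub_left_injective h2
    have hWb := hN _ (hdim j).2 C W (resRep ρ C W hWinv) inferInstance hWinj (hnp.subgroup C) rfl
      (hdim j).1
    -- the part on `U`
    have he' : ∀ i : Fin t, ∀ v, e i.castSucc v ∈ U := fun i v =>
      hzero j i.castSucc (Fin.castSucc_lt_last i).ne' v
    let e' : Fin t → Module.End (ZMod p) U := fun i =>
      (e i.castSucc).restrict fun v _ => he' i v
    have hpull : ∀ (i : Fin t) (g : X), ρ' (g : X ⧸ C) * e' i = e' i →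
        ρ g * e i.castSucc = e i.castSucc := by
      intro i g h
      refine LinearMap.ext fun v => ?_
      have h1 : ρ g (e i.castSucc (v - e j v)) = e i.castSucc (v - e j v) :=
        congrArg Subtype.val (LinearMap.congr_fun h (π v))
      rwa [map_sub, hzero _ j (Fin.castSucc_lt_last i).ne, sub_zero] at h1
    have hpush : ∀ (i : Fin t) (g : X), ρ g * e i.castSucc = e i.castSucc →
        ρ' (g : X ⧸ C) * e' i = e' i := fun i g h => LinearMap.ext fun u => Subtype.ext
      (LinearMap.congr_fun h (u : V))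
    have hfix' : ∀ i, ∀ P : Subgroup (X ⧸ C), P.Normal →
        (∀ x ∈ P, ∃ l : ℕ, ρ' (x ^ p ^ l) * e' i = e' i) → ∀ x ∈ P, ρ' x * e' i = e' i := by
      intro i P hP h x hx
      obtain ⟨g, rfl⟩ := QuotientGroup.mk_surjective x
      refine hpush i g (hfix i.castSucc (P.comap (QuotientGroup.mk' C)) (hP.comap _)
        (fun y hy => ?_) g hx)
      obtain ⟨l, hl⟩ := h _ hy
      exact ⟨l, hpull i _ (by rw [QuotientGroup.mk_pow]; exact hl)⟩
    have hsum' : ∀ u : U, ∑ i : Fin t, e i.castSucc (u : V) = u := fun u => by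
      have h := LinearMap.congr_fun hsum (u : V)
      rw [LinearMap.sum_apply, Fin.sum_univ_castSucc, show e (Fin.last t) (u : V) = 0 from u.2,
        add_zero, Module.End.one_apply] at h
      exact h
    have hnp' : NoP p (X ⧸ C) := by
      intro P hP hPp
      refine (Subgroup.eq_bot_iff_forall P).2 fun x hx => ?_
      refine quotRep_injective ρU0 (LinearMap.ext fun u => Subtype.ext ?_)
      have hall : ∀ i, ρ' x * e' i = e' i := fun i => hfix' i P hP (fun y hy => by
        obtain ⟨l, hl⟩ := hPp ⟨y, hy⟩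
        refine ⟨l, ?_⟩
        rw [show y ^ p ^ l = 1 from congrArg Subtype.val hl, map_one, one_mul]) x hx
      obtain ⟨g, rfl⟩ := QuotientGroup.mk_surjective x
      rw [map_one, Module.End.one_apply]
      show ρ g (u : V) = u
      conv_lhs => rw [← hsum' u, map_sum]
      conv_rhs => rw [← hsum' u]
      exact Finset.sum_congr rfl fun i _ => congrArg Subtype.val (LinearMap.congr_fun (hall i) u)
    have hUb := ih (X ⧸ C) U ρ' inferInstance (quotRep_injective ρU0) hnp' e'
      (fun i => LinearMap.ext fun u => Subtype.ext (hvv _ _))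
      (fun i i' h => LinearMap.ext fun u => Subtype.ext
        (hzero _ _ (fun h' => h (Fin.castSucc_injective _ h')) _))
      (LinearMap.ext fun u => Subtype.ext (by
        rw [LinearMap.sum_apply, Submodule.coe_sum]
        exact hsum' u))
      (fun x i => by
        obtain ⟨g, rfl⟩ := QuotientGroup.mk_surjective x
        exact LinearMap.ext fun u => Subtype.ext (hcv g _ _))
      (fun i => by
        rw [finrank_range_restrict U _ (fun v _ => he' i v) (hvv _) (he' i)]
        exact hdim i.castSucc)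
      hfix'
    have hn : Module.finrank (ZMod p) W + Module.finrank (ZMod p) U =
        Module.finrank (ZMod p) V := LinearMap.finrank_range_add_finrank_ker (e j)
    rw [← hn, pow_add, pow_add 3]
    calc 3 ^ (t + 1) * affK ρ ≤ 3 ^ (t + 1) * (affK (resRep ρ C W hWinv) * affK ρ') :=
          Nat.mul_le_mul_left _ hstep
      _ = (3 * affK (resRep ρ C W hWinv)) * (3 ^ t * affK ρ') := by ring
      _ ≤ _ := Nat.mul_le_mul hWb hUb
      _ = _ := by ring

/-- The block case. -/
theorem blocks_case {n : ℕ} (hN : ∀ m < n, AffBound p m) {X : Type} [Group X] [Finite X] {V : Type}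
    [AddCommGroup V] [Module (ZMod p) V] [Finite V] (ρ : X →* Module.End (ZMod p) V)
    (hsol : Group.IsSolvable X) (hinj : Function.Injective ρ) (hirr : Irred ρ)
    (hnp : NoP p X) (hn : Module.finrank (ZMod p) V = n) (B : Blocks ρ) :
    3 * affK ρ ≤ p ^ n * 3 ^ n := by
  haveI := hsol
  set X0 := B.σ.ker with hX0
  have hσ : Nat.card (ConjClasses (X ⧸ X0)) ≤ 3 ^ (B.t - 1) :=
    ((permBound B.t).of_quot hsol B.σ (Fintype.card_fin _)).card_le
  have hcomm : ∀ (g : X0) i, ρ (g : X) * B.e i = B.e i * ρ (g : X) := fun g i => by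
    rw [B.conj, MonoidHom.mem_ker.1 g.2, Equiv.Perm.one_apply]
  have hdim : ∀ i, 0 < Module.finrank (ZMod p) (LinearMap.range (B.e i)) ∧
      Module.finrank (ZMod p) (LinearMap.range (B.e i)) < n := fun i => by
    refine ⟨B.finrank_pos i, ?_⟩
    rw [← hn, B.finrank_eq hirr i]
    exact lt_mul_left (B.finrank_pos i) B.two_le
  have hfix : ∀ i, ∀ P : Subgroup X0, P.Normal →
      (∀ x ∈ P, ∃ l : ℕ, (ρ.comp X0.subtype) (x ^ p ^ l) * B.e i = B.e i) →
        ∀ x ∈ P, (ρ.comp X0.subtype) x * B.e i = B.e i := by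
    intro i P hP hpow
    let K := (B.res i).ker
    let T : X0 →* B.stab i := Subgroup.inclusion (B.ker_le_stab i)
    let q : B.stab i →* B.stab i ⧸ K := QuotientGroup.mk' K
    have hTn : T.range.Normal := by
      rw [show T.range = X0.subgroupOf (B.stab i) from Subgroup.inclusion_range _]
      infer_instance
    have hI : (q.comp T).range.Normal := by
      rw [MonoidHom.range_comp]
      exact hTn.map q (QuotientGroup.mk'_surjective K)
    have hnpI : NoP p (q.comp T).range :=
      (noP_of_irred _ (quotRep_injective _) (B.irred_res hirr i).quotRep).subgroup _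
    have key : ∀ x : X0, q (T x) = 1 ↔ (ρ.comp X0.subtype) x * B.e i = B.e i := by
      intro x
      rw [QuotientGroup.mk'_apply, QuotientGroup.eq_one_iff, MonoidHom.mem_ker]
      constructor
      · intro h
        exact LinearMap.ext fun v => congrArg Subtype.val (LinearMap.congr_fun h ⟨B.e i v, v, rfl⟩)
      · intro h
        refine LinearMap.ext fun w => Subtype.ext ?_
        obtain ⟨v, hv⟩ := w.2
        show ρ (x : X) (w : V) = w
        rw [← hv]
        exact LinearMap.congr_fun h v
    have hbot := hnpI (P.map (q.comp T).rangeRestrict)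
      (hP.map _ (q.comp T).rangeRestrict_surjective) (fun y => by
        obtain ⟨x, hx, hxy⟩ := y.2
        obtain ⟨l, hl⟩ := hpow x hx
        refine ⟨l, Subtype.ext (Subtype.ext ?_)⟩
        rw [SubmonoidClass.coe_pow, SubmonoidClass.coe_pow, ← hxy]
        show (q (T x)) ^ p ^ l = 1
        rw [← map_pow, ← map_pow]
        exact (key _).2 hl)
    intro x hx
    refine (key x).1 ?_
    have h1 : (q.comp T).rangeRestrict x ∈ P.map (q.comp T).rangeRestrict := ⟨x, hx, rfl⟩
    rw [hbot, Subgroup.mem_bot] at h1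
    exact congrArg Subtype.val h1
  have h0 := multi hN B.t X0 V (ρ.comp X0.subtype) inferInstance
    (hinj.comp Subtype.val_injective) (hnp.subgroup X0) B.e B.mul_self B.orth B.sum_eq hcomm hdim hfix
  rw [hn] at h0
  have ht : 3 * 3 ^ (B.t - 1) = 3 ^ B.t := by
    rw [← pow_succ', Nat.sub_add_cancel (by have := B.two_le; omega)]
  calc 3 * affK ρ ≤ 3 * (affK (ρ.comp X0.subtype) * 3 ^ (B.t - 1)) :=
        Nat.mul_le_mul_left _ ((affK_le_quot ρ X0).trans (Nat.mul_le_mul_left _ hσ))
    _ = 3 ^ B.t * affK (ρ.comp X0.subtype) := by rw [← ht]; ring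
    _ ≤ _ := h0

theorem field_arith' {e r m : ℕ} (he : 1 ≤ e) (hm : 1 ≤ m) (hmr : m ≤ r) :
    3 * (3 ^ (m - 1) * e) ≤ 3 ^ (e * r) := by
  rw [← mul_assoc, ← pow_succ', Nat.sub_add_cancel hm]
  obtain ⟨d, rfl⟩ : ∃ d, e = d + 1 := ⟨e - 1, by omega⟩
  rw [Nat.succ_mul, pow_add, mul_comm]
  refine Nat.mul_le_mul ?_ (Nat.pow_le_pow_right (by norm_num) hmr)
  calc d + 1 ≤ 3 ^ d := Nat.lt_pow_self (by norm_num)
    _ ≤ 3 ^ (d * r) := Nat.pow_le_pow_right (by norm_num) (Nat.le_mul_of_pos_right d (by omega))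

/-- The irreducible case. -/
theorem irred_case {n : ℕ} (hN : ∀ m < n, AffBound p m) {X : Type} [Group X] [Finite X] {V : Type}
    [AddCommGroup V] [Module (ZMod p) V] [Finite V] (ρ : X →* Module.End (ZMod p) V)
    (hsol : Group.IsSolvable X) (hinj : Function.Injective ρ) (hirr : Irred ρ)
    (hnp : NoP p X) (hn : Module.finrank (ZMod p) V = n) : 3 * affK ρ ≤ p ^ n * 3 ^ n := by
  haveI := hsol
  haveI := hirr.1
  rcases field_data ρ hsol hinj hirr with ⟨⟨B⟩⟩ | ⟨C, e, r, m, hCn, he, hn', hidx, hm, hmr, hk, hab⟩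
  · exact blocks_case hN ρ hsol hinj hirr hnp hn B
  haveI := fitting_normal C
  set F := Cfsg.fittingSubgroup C with hF
  have hkC : Nat.card (ConjClasses (C ⧸ F)) ≤ 3 ^ (m - 1) :=
    (hk fun q a hq ha _ => @pieceBound_of_linBound q a ⟨hq⟩ ha fun _ => linBound _).card_le
  have hkX : Nat.card (ConjClasses (X ⧸ C)) ≤ e :=
    (card_conjClasses_le _).trans (by rw [← Subgroup.index_eq_card]; exact hidx)
  have hFp : ¬ p ∣ Nat.card F := by
    intro hd
    haveI hnil : Group.IsNilpotent F := CfsgLib.Fitting.fitting_isNilpotent (G := C)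
    have hS : Cfsg.pCore p F = ⊥ := noP_iff.1 ((hnp.subgroup C).subgroup F)
    exact (Classical.arbitrary (Sylow p F)).ne_bot_of_dvd_card hd
      ((noP_iff.2 hS) _ inferInstance (Classical.arbitrary (Sylow p F)).2)
  obtain ⟨v, hv⟩ := exists_ne (0 : V)
  have hFk : affK ((ρ.comp C.subtype).comp F.subtype) ≤ p ^ n := by
    refine (affK_le_card _ ((hinj.comp C.subtype_injective).comp F.subtype_injective) hFp v
      fun a b hav hbv => Subtype.ext (hab v hv a a.2 b b.2 hav hbv)).trans (le_of_eq ?_)
    haveI : Module.Finite (ZMod p) V := Module.Finite.of_finite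
    rw [Module.natCard_eq_pow_finrank (K := ZMod p), Nat.card_zmod, hn]
  rw [hn] at hn'
  subst hn'
  calc 3 * affK ρ ≤ 3 * (p ^ (e * r) * 3 ^ (m - 1) * e) :=
        Nat.mul_le_mul_left _ ((affK_le_quot ρ C).trans (Nat.mul_le_mul
          ((affK_le_quot _ F).trans (Nat.mul_le_mul hFk hkC)) hkX))
    _ = p ^ (e * r) * (3 * (3 ^ (m - 1) * e)) := by ring
    _ ≤ _ := Nat.mul_le_mul_left _ (field_arith' he hm hmr)

/-- The kernel on a quotient space embeds on the subspace. -/
theorem injective_on_sub {X : Type} [Group X] [Finite X] {V : Type} [AddCommGroup V]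
    [Module (ZMod p) V] (ρ : X →* Module.End (ZMod p) V) (hinj : Function.Injective ρ)
    (hnp : NoP p X) (W : Submodule (ZMod p) V) (hW : ∀ g, ∀ v ∈ W, ρ g v ∈ W) (C : Subgroup X)
    [C.Normal] (hC : ∀ c ∈ C, ∀ v, ρ c v - v ∈ W) :
    Function.Injective (resRep ρ C W fun g _ => hW g) := by
  let D : Subgroup X := (resRep ρ C W fun g _ => hW g).ker.map C.subtype
  have hfixW : ∀ x ∈ D, ∀ w ∈ W, ρ x w = w := by
    rintro _ ⟨c, hc, rfl⟩ w hw
    exact congrArg Subtype.val (LinearMap.congr_fun (MonoidHom.mem_ker.1 hc) ⟨w, hw⟩)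
  have hDn : D.Normal := by
    refine ⟨fun x hx g => ?_⟩
    have hxC : x ∈ C := Subgroup.map_subtype_le _ hx
    refine ⟨⟨g * x * g⁻¹, Subgroup.Normal.conj_mem inferInstance x hxC g⟩, MonoidHom.mem_ker.2
      (LinearMap.ext fun w => Subtype.ext ?_), rfl⟩
    show ρ (g * x * g⁻¹) (w : V) = w
    rw [map_mul, map_mul, Module.End.mul_apply, Module.End.mul_apply,
      hfixW x hx _ (hW g⁻¹ _ w.2), rep_apply_inv]
  have hDp : IsPGroup p D := by
    intro x
    refine ⟨1, Subtype.ext (hinj (LinearMap.ext fun v => ?_))⟩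
    have hN : ρ (x : X) v - v ∈ W := hC _ (Subgroup.map_subtype_le _ x.2) v
    set w := ρ (x : X) v - v with hw
    have hi : ∀ i : ℕ, ρ ((x : X) ^ i) v = v + (i : ZMod p) • w := by
      intro i
      induction i with
      | zero => simp
      | succ i ihi =>
        rw [pow_succ', map_mul, Module.End.mul_apply, ihi, map_add, map_smul,
          hfixW _ x.2 _ hN, Nat.cast_succ, add_smul, one_smul,
          show ρ (x : X) v = v + w by rw [hw]; abel]
        abel
    rw [SubmonoidClass.coe_pow, pow_one, hi, ZMod.natCast_self, zero_smul, add_zero,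
      OneMemClass.coe_one, map_one, Module.End.one_apply]
  refine (injective_iff_map_eq_one _).2 fun c hc => Subtype.ext ?_
  have h : (c : X) ∈ D := ⟨c, MonoidHom.mem_ker.2 hc, rfl⟩
  rw [hnp D hDn hDp, Subgroup.mem_bot] at h
  exact h

/-- The class number bound for solvable affine groups. -/
theorem affBound : ∀ n, AffBound p n := by
  intro n
  induction n using Nat.strong_induction_on with
  | _ n ih =>
  intro X _ _ V _ _ _ ρ hsol hinj hnp hn hpos
  haveI := hsol
  haveI : Module.Finite (ZMod p) V := Module.Finite.of_finite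
  haveI : Nontrivial V :=
    Module.nontrivial_of_finrank_pos (R := ZMod p) (M := V) (by omega)
  by_cases hirr : Irred ρ
  · exact irred_case ih ρ hsol hinj hirr hnp hn
  let S : Set (Submodule (ZMod p) V) := {W | W ≠ ⊤ ∧ ∀ g, ∀ v ∈ W, ρ g v ∈ W}
  obtain ⟨W, ⟨hWtop, hW⟩, hWmax⟩ := wellFounded_gt.has_min S
    ⟨⊥, bot_ne_top, fun g v hv => by rw [(Submodule.mem_bot _).1 hv, map_zero]; exact zero_mem _⟩
  have hmax : ∀ U : Submodule (ZMod p) V, (∀ g, ∀ v ∈ U, ρ g v ∈ U) → W ≤ U → U = W ∨ U = ⊤ :=
    fun U hU hle => or_iff_not_imp_right.2 fun ht =>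
      (eq_of_le_of_not_lt hle fun hlt => hWmax U ⟨ht, hU⟩ hlt).symm
  have hWbot : W ≠ ⊥ := by
    rintro rfl
    exact hirr ⟨inferInstance, fun U hU => hmax U hU bot_le⟩
  let ρQ : X →* Module.End (ZMod p) (V ⧸ W) :=
    { toFun := fun g => W.mapQ W (ρ g) (hW g)
      map_one' := by
        refine Submodule.linearMap_qext _ (LinearMap.ext fun v => ?_)
        simp
      map_mul' := fun g h => by
        refine Submodule.linearMap_qext _ (LinearMap.ext fun v => ?_)
        simp }
  have hρQ : ∀ g v, ρQ g (Submodule.Quotient.mk v) = Submodule.Quotient.mk (ρ g v) := fun g v => rfl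
  set C := ρQ.ker with hC
  haveI : Finite (V ⧸ W) := Finite.of_surjective _ W.mkQ_surjective
  have hQirr : Irred ρQ := by
    refine ⟨Submodule.Quotient.nontrivial_iff.2 hWtop, fun U hU => ?_⟩
    rcases hmax (U.comap W.mkQ) (fun g v hv => by
      show W.mkQ (ρ g v) ∈ U
      rw [Submodule.mkQ_apply, ← hρQ]
      exact hU g _ hv) (fun v hv => by
      show W.mkQ v ∈ U
      rw [Submodule.mkQ_apply, (Submodule.Quotient.mk_eq_zero W).2 hv]
      exact zero_mem _) with h | h
    · left
      rw [eq_bot_iff]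
      intro x hx
      obtain ⟨v, rfl⟩ := W.mkQ_surjective x
      exact (Submodule.mem_bot _).2 ((Submodule.Quotient.mk_eq_zero W).2 (h ▸ hx : v ∈ W))
    · right
      rw [eq_top_iff]
      intro x _
      obtain ⟨v, rfl⟩ := W.mkQ_surjective x
      exact (h.symm ▸ Submodule.mem_top : v ∈ U.comap W.mkQ)
  have hstep : affK ρ ≤ affK (resRep ρ C W fun g _ => hW g) * affK (quotRep ρQ) :=
    affK_le_map ρ (quotRep ρQ) W.mkQ W.mkQ_surjective (QuotientGroup.mk' C)
      (QuotientGroup.mk'_surjective C) (fun g v => rfl) W W.ker_mkQ.symm C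
      (QuotientGroup.ker_mk' C).symm _ (fun c w => rfl)
  have hCW : ∀ c ∈ C, ∀ v, ρ c v - v ∈ W := fun c hc v => by
    rw [← Submodule.Quotient.eq, ← hρQ, MonoidHom.mem_ker.1 hc, Module.End.one_apply]
  have hdim := W.finrank_quotient_add_finrank
  rw [hn] at hdim
  have hw1 : 0 < Module.finrank (ZMod p) W :=
    Nat.pos_of_ne_zero fun h => hWbot (Submodule.finrank_eq_zero.1 h)
  have hq1 : 0 < Module.finrank (ZMod p) (V ⧸ W) := by
    haveI := hQirr.1
    exact Module.finrank_pos
  have h1 := ih _ (show Module.finrank (ZMod p) W < n by omega) C W _ inferInstance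
    (injective_on_sub ρ hinj hnp W hW C hCW) (hnp.subgroup C) rfl hw1
  have h2 := ih _ (show Module.finrank (ZMod p) (V ⧸ W) < n by omega) (X ⧸ C) (V ⧸ W) (quotRep ρQ)
    inferInstance (quotRep_injective ρQ)
    (noP_of_irred _ (quotRep_injective ρQ) hQirr.quotRep) rfl hq1
  rw [← hdim, pow_add, pow_add 3]
  calc 3 * affK ρ ≤ 3 * (3 * affK (resRep ρ C W fun g _ => hW g) * affK (quotRep ρQ)) :=
        Nat.mul_le_mul_left _ (hstep.trans (Nat.mul_le_mul_right _ (Nat.le_mul_of_pos_left _ (by norm_num))))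
    _ = (3 * affK (resRep ρ C W fun g _ => hW g)) * (3 * affK (quotRep ρQ)) := by ring
    _ ≤ _ := Nat.mul_le_mul h1 h2
    _ = _ := by ring

end CfsgLib.BlockBound51
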