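import Cfsg.Agent.Lib.ClassBound.Blocks
import Cfsg.Agent.Lib.PCore.Basic
import Cfsg.Agent.S4201
import Mathlib

/-!
# Affine groups of linear representations: class numbers
-/

set_option autoImplicit false
set_option linter.style.haveILetI false

namespace CfsgLib.BlockBound51

open CfsgLib.ClassBound

variable {k : Type*} [Field k] {V : Type*} [AddCommGroup V] [Module k V] {X : Type*} [Group X]

/-- The translation action attached to a representation. -/
noncomputable def actHom (ρ : X →* Module.End k V) : X →* MulAut (Multiplicative V) where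
  toFun g :=
    { toFun := fun v => Multiplicative.ofAdd (ρ g v.toAdd)
      invFun := fun v => Multiplicative.ofAdd (ρ g⁻¹ v.toAdd)
      left_inv := fun v => by simp
      right_inv := fun v => by simp
      map_mul' := fun v w => by simp }
  map_one' := MulEquiv.ext fun v => by simp
  map_mul' g h := MulEquiv.ext fun v => by simp

theorem actHom_apply (ρ : X →* Module.End k V) (g : X) (v : Multiplicative V) :
    actHom ρ g v = Multiplicative.ofAdd (ρ g v.toAdd) := rfl

/-- The affine group of a representation. -/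
abbrev Aff (ρ : X →* Module.End k V) : Type _ := Multiplicative V ⋊[actHom ρ] X

instance finite_aff [Finite V] [Finite X] (ρ : X →* Module.End k V) : Finite (Aff ρ) :=
  Finite.of_equiv _ SemidirectProduct.equivProd.symm

/-- The number of classes of the affine group. -/
noncomputable def affK (ρ : X →* Module.End k V) : ℕ := Nat.card (ConjClasses (Aff ρ))

/-- No nontrivial normal subgroup of `p`-power order. -/
def NoP (p : ℕ) (X : Type*) [Group X] : Prop :=
  ∀ P : Subgroup X, P.Normal → IsPGroup p P → P = ⊥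

theorem noP_iff {p : ℕ} {X : Type*} [Group X] : NoP p X ↔ Cfsg.pCore p X = ⊥ :=
  ⟨fun h => le_bot_iff.1 (sSup_le fun P hP => (h P hP.1 hP.2).le),
    fun h _ hPn hPp => le_bot_iff.1 (h ▸ le_sSup ⟨hPn, hPp⟩)⟩

theorem NoP.subgroup {p : ℕ} {X : Type*} [Group X] [Finite X] (h : NoP p X) (C : Subgroup X)
    [C.Normal] : NoP p C :=
  noP_iff.2 (CfsgLib.PCore.pCore_eq_bot_of_normal C (noP_iff.1 h))

/-- Classes of an extension by a surjection. -/
theorem affK_le_step [Finite V] [Finite X] (ρ : X →* Module.End k V) {Z : Type*} [Group Z]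
    (f : Aff ρ →* Z) (hf : Function.Surjective f) {W : Type*} [AddCommGroup W] [Module k W] [Finite W]
    (ι : W →ₗ[k] V) (C : Subgroup X)
    (ρC : C →* Module.End k W) (hρC : ∀ (c : C) (w : W), ι (ρC c w) = ρ (c : X) (ι w))
    (hker : ∀ x : Aff ρ, f x = 1 ↔ x.left.toAdd ∈ LinearMap.range ι ∧ x.right ∈ C) :
    affK ρ ≤ affK ρC * Nat.card (ConjClasses Z) := by
  let j : Aff ρC →* Aff ρ := SemidirectProduct.map (AddMonoidHom.toMultiplicative ι.toAddMonoidHom)
    C.subtype fun c => MonoidHom.ext fun w => by
      show Multiplicative.ofAdd (ι (ρC c w.toAdd)) = _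
      rw [hρC]
      rfl
  have hj : ∀ x, j x ∈ f.ker := fun x => MonoidHom.mem_ker.2 ((hker _).2
    ⟨⟨x.left.toAdd, rfl⟩, x.right.2⟩)
  let e : Aff ρC →* f.ker := j.codRestrict f.ker hj
  have hsurj : Function.Surjective e := fun y => by
    obtain ⟨⟨w, hw⟩, h2⟩ := (hker _).1 (MonoidHom.mem_ker.1 y.2)
    refine ⟨⟨Multiplicative.ofAdd w, ⟨_, h2⟩⟩, Subtype.ext ?_⟩
    exact SemidirectProduct.ext (congrArg Multiplicative.ofAdd hw) rfl
  haveI : Finite Z := Finite.of_surjective f hf
  exact (Cfsg.Agent.S4201.result f.ker).trans (Nat.mul_le_mul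
    (card_conjClasses_le_of_surjective e hsurj)
    (card_conjClasses_le_of_surjective
      (QuotientGroup.quotientKerEquivOfSurjective f hf).symm.toMonoidHom
      (QuotientGroup.quotientKerEquivOfSurjective f hf).symm.surjective))

/-- Passing to a quotient of the linear group. -/
theorem affK_le_quot [Finite V] [Finite X] (ρ : X →* Module.End k V) (C : Subgroup X) [C.Normal] :
    affK ρ ≤ affK (ρ.comp C.subtype) * Nat.card (ConjClasses (X ⧸ C)) := by
  refine affK_le_step ρ ((QuotientGroup.mk' C).comp SemidirectProduct.rightHom)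
    ((QuotientGroup.mk'_surjective C).comp SemidirectProduct.rightHom_surjective) LinearMap.id C _
    (fun c w => rfl) fun x => ?_
  rw [MonoidHom.comp_apply, SemidirectProduct.rightHom_eq_right, QuotientGroup.mk'_apply,
    QuotientGroup.eq_one_iff, LinearMap.range_id]
  exact ⟨fun h => ⟨Submodule.mem_top, h⟩, fun h => h.2⟩

/-- Passing to an equivariant image. -/
theorem affK_le_map [Finite V] [Finite X] (ρ : X →* Module.End k V) {V' : Type*} [AddCommGroup V']
    [Module k V'] [Finite V'] {X' : Type*} [Group X'] [Finite X'] (ρ' : X' →* Module.End k V')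
    (π : V →ₗ[k] V') (hπ : Function.Surjective π) (φ : X →* X') (hφ : Function.Surjective φ)
    (heq : ∀ g v, π (ρ g v) = ρ' (φ g) (π v))
    (W : Submodule k V) (hW : W = LinearMap.ker π) (C : Subgroup X) (hC : C = φ.ker)
    (ρC : C →* Module.End k W) (hρC : ∀ (c : C) (w : W), ((ρC c w : W) : V) = ρ (c : X) w) :
    affK ρ ≤ affK ρC * affK ρ' := by
  let f : Aff ρ →* Aff ρ' := SemidirectProduct.map (AddMonoidHom.toMultiplicative π.toAddMonoidHom) φ
    fun g => MonoidHom.ext fun v => congrArg Multiplicative.ofAdd (heq g v.toAdd)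
  refine affK_le_step ρ f (fun y => ?_) W.subtype C ρC hρC fun x => ?_
  · obtain ⟨v, hv⟩ := hπ y.left.toAdd
    obtain ⟨g, hg⟩ := hφ y.right
    exact ⟨⟨Multiplicative.ofAdd v, g⟩, SemidirectProduct.ext (congrArg Multiplicative.ofAdd hv) hg⟩
  · subst hW hC
    rw [SemidirectProduct.ext_iff, Submodule.range_subtype]
    exact Iff.rfl

/-- Restriction of a representation to a subgroup and an invariant subspace. -/
noncomputable def resRep (ρ : X →* Module.End k V) (C : Subgroup X) (W : Submodule k V)
    (h : ∀ g ∈ C, ∀ v ∈ W, ρ g v ∈ W) : C →* Module.End k W where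
  toFun g := (ρ (g : X)).restrict (h g g.2)
  map_one' := LinearMap.ext fun v => Subtype.ext (by
    show ρ (1 : X) (v : V) = v
    rw [map_one, Module.End.one_apply])
  map_mul' g g' := LinearMap.ext fun v => Subtype.ext (by
    show ρ ((g : X) * g') (v : V) = ρ (g : X) (ρ (g' : X) v)
    rw [map_mul, Module.End.mul_apply])

theorem resRep_apply (ρ : X →* Module.End k V) (C : Subgroup X) (W : Submodule k V)
    (h : ∀ g ∈ C, ∀ v ∈ W, ρ g v ∈ W) (g : C) (v : W) :
    ((resRep ρ C W h g v : W) : V) = ρ (g : X) v := rfl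

/-- A `p`-group of linear maps in characteristic `p` has a common fixed vector. -/
theorem exists_fixed_of_isPGroup {p : ℕ} [Fact p.Prime] {V : Type*} [AddCommGroup V]
    [Module (ZMod p) V] [Finite V] [Nontrivial V] {P : Type*} [Group P] (hP : IsPGroup p P)
    (ρ : P →* Module.End (ZMod p) V) : ∃ v, v ≠ 0 ∧ ∀ g, ρ g v = v := by
  letI : MulAction P V :=
    { smul := fun g v => ρ g v
      one_smul := fun v => by
        show ρ 1 v = v
        rw [map_one, Module.End.one_apply]
      mul_smul := fun g h v => by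
        show ρ (g * h) v = ρ g (ρ h v)
        rw [map_mul, Module.End.mul_apply] }
  have h0 : (0 : V) ∈ MulAction.fixedPoints P V := fun g => map_zero (ρ g)
  have hdvd : p ∣ Nat.card V := by
    haveI : Module.Finite (ZMod p) V := Module.Finite.of_finite
    rw [Module.natCard_eq_pow_finrank (K := ZMod p), Nat.card_zmod]
    exact dvd_pow_self p Module.finrank_pos.ne'
  obtain ⟨v, hv, hne⟩ := hP.exists_fixed_point_of_prime_dvd_card_of_fixed_point V hdvd h0
  exact ⟨v, Ne.symm hne, fun g => hv g⟩

/-- An irreducible linear group in characteristic `p` has no normal `p`-subgroup. -/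
theorem noP_of_irred {p : ℕ} [Fact p.Prime] {V : Type*} [AddCommGroup V] [Module (ZMod p) V]
    [Finite V] {X : Type*} [Group X] (ρ : X →* Module.End (ZMod p) V) (hinj : Function.Injective ρ)
    (hirr : Irred ρ) : NoP p X := by
  intro P hPn hPp
  haveI := hirr.1
  obtain ⟨v, hv0, hv⟩ := exists_fixed_of_isPGroup hPp (ρ.comp P.subtype)
  let W : Submodule (ZMod p) V :=
    { carrier := {w | ∀ x ∈ P, ρ x w = w}
      add_mem' := fun {a b} ha hb x hx => by rw [map_add, ha x hx, hb x hx]
      zero_mem' := fun x _ => map_zero (ρ x)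
      smul_mem' := fun c a ha x hx => by rw [map_smul, ha x hx] }
  have hW : ∀ g, ∀ w ∈ W, ρ g w ∈ W := fun g w hw x hx => by
    have h1 : ρ (g⁻¹ * x * g) w = w := hw _ (by simpa using hPn.conj_mem x hx g⁻¹)
    calc ρ x (ρ g w) = ρ g (ρ (g⁻¹ * x * g) w) := by
          rw [← Module.End.mul_apply, ← Module.End.mul_apply, ← map_mul, ← map_mul,
            show g * (g⁻¹ * x * g) = x * g by group]
      _ = ρ g w := by rw [h1]
  have htop := (hirr.2 W hW).resolve_left fun hb => hv0 ((Submodule.mem_bot _).1
    (hb ▸ (show v ∈ W from fun x hx => hv ⟨x, hx⟩)))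
  refine (Subgroup.eq_bot_iff_forall P).2 fun x hx => hinj (LinearMap.ext fun w => ?_)
  rw [map_one, Module.End.one_apply]
  exact (htop ▸ Submodule.mem_top : w ∈ W) x hx

end CfsgLib.BlockBound51
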