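import Cfsg.Agent.Lib.ClassBound.Linear
import Cfsg.Agent.Lib.BlockBound51.Semi
import Cfsg.Agent.S4958
import Mathlib

/-!
# Irreducible solvable linear groups without blocks

The Fitting subgroup of the part acting linearly over the extension field has abelian stabilizers
of nonzero vectors, so its affine group has at most as many classes as vectors.
-/

set_option autoImplicit false
set_option linter.style.haveILetI false
set_option maxHeartbeats 800000

namespace CfsgLib.BlockBound51

open Subgroup CfsgLib.ClassBound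
open scoped commutatorElement

/-- Without blocks: a normal subgroup acting over a field, with its class bound and the
commutativity of the stabilizers in its Fitting subgroup. -/
theorem field_data {X : Type} [Group X] [Finite X] {k : Type} [Field k] [Finite k] {V : Type}
    [AddCommGroup V] [Module k V] [FiniteDimensional k V] (ρ : X →* Module.End k V)
    (hsol : Group.IsSolvable X) (hinj : Function.Injective ρ) (hirr : Irred ρ) :
    Nonempty (Blocks ρ) ∨ ∃ (C : Subgroup X) (e r m : ℕ), C.Normal ∧ 1 ≤ e ∧
      Module.finrank k V = e * r ∧ C.index ≤ e ∧ 1 ≤ m ∧ m ≤ r ∧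
      (PiecesUpTo m → [(Cfsg.fittingSubgroup C).Normal] →
        KBound (C ⧸ Cfsg.fittingSubgroup C) (3 ^ (m - 1))) ∧
      ∀ v : V, v ≠ 0 → ∀ a ∈ Cfsg.fittingSubgroup C, ∀ b ∈ Cfsg.fittingSubgroup C,
        ρ (a : X) v = v → ρ (b : X) v = v → a * b = b * a := by
  classical
  obtain ⟨A, hAn, hAc, hAmax⟩ := exists_maximal_abelian_normal X
  haveI := hAn
  rcases blocks_or_isField hirr A hAc with h | hfield
  · exact Or.inl h
  right
  haveI := hirr.1
  let R := algebraOf ρ A
  letI : Field R := hfield.toField
  haveI : Finite V := Module.finite_of_finite k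
  haveI : Finite (Module.End k V) := Finite.of_injective _ DFunLike.coe_injective
  haveI : Finite R := inferInstance
  haveI : Module.Finite k R := Module.Finite.of_finite
  haveI : Module.Finite R V := Module.Finite.of_finite
  set C := centralizer (A : Set X) with hC
  have hAC : A ≤ C := fun a ha => mem_centralizer_iff.2 fun b hb => (hAc b hb a ha).eq
  have hcommR : ∀ c ∈ C, ∀ x ∈ R, x * ρ c = ρ c * x := by
    intro c hc x hx
    have hle : R ≤ Subalgebra.centralizer k {ρ c} := Algebra.adjoin_le (by
      rintro _ ⟨a, ha, rfl⟩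
      rw [SetLike.mem_coe, Subalgebra.mem_centralizer_iff]
      intro z hz
      rw [Set.mem_singleton_iff.1 hz, ← map_mul, ← map_mul, mem_centralizer_iff.1 hc a ha])
    exact ((Subalgebra.mem_centralizer_iff k).1 (hle hx) _ rfl).symm
  let ρ' : C →* Module.End R V :=
    { toFun := fun c =>
        { toFun := ρ (c : X)
          map_add' := map_add _
          map_smul' := fun y v => by
            show ρ (c : X) ((y : Module.End k V) v) = (y : Module.End k V) (ρ (c : X) v)
            rw [← Module.End.mul_apply, ← hcommR _ c.2 _ y.2, Module.End.mul_apply] }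
      map_one' := LinearMap.ext fun v => by
        show ρ (1 : X) v = v
        rw [map_one, Module.End.one_apply]
      map_mul' := fun c d => LinearMap.ext fun v => by
        show ρ ((c : X) * d) v = ρ (c : X) (ρ (d : X) v)
        rw [map_mul, Module.End.mul_apply] }
  have hset : Setting C ρ' := by
    refine ⟨hsol, inferInstance, inferInstance, fun c d e => Subtype.ext (hinj (LinearMap.ext fun v =>
      LinearMap.congr_fun e v)), fun B hB hBC hBc b hb => ?_⟩
    have hbA : (b : X) ∈ A := hAmax B hB hBc
      (fun a ha b' hb' => mem_centralizer_iff.1 (hBC hb') a ha) hb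
    exact ⟨⟨ρ b, mem_algebraOf ρ hbA⟩, LinearMap.ext fun v => rfl⟩
  obtain ⟨m, hm1, hmr, -, -, hbound⟩ := hset.structure_bound
  have hzA : zC C ≤ A := hAmax (zC C) (zC_normal C)
    (fun a ha b hb => commute_zC hb ha.1) (fun a ha b hb => commute_zC hb (hAC ha))
  -- the action on the field
  let φ : X → R →ₐ[k] R := fun g =>
    ((conjAlg ρ g).comp R.val).codRestrict R fun y => conjAlg_mem ρ g y.2
  have hφφ : ∀ g h y, φ g (φ h y) = φ (g * h) y := fun g h y =>
    Subtype.ext (conjAlg_conjAlg ρ g h _)
  have hφ1 : ∀ y, φ 1 y = y := fun y => Subtype.ext (conjAlg_one ρ _)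
  let ψ : X →* (R ≃ₐ[k] R) :=
    { toFun := fun g => AlgEquiv.ofAlgHom (φ g) (φ g⁻¹)
        (AlgHom.ext fun y => (hφφ _ _ y).trans (by rw [mul_inv_cancel, hφ1]; rfl))
        (AlgHom.ext fun y => (hφφ _ _ y).trans (by rw [inv_mul_cancel, hφ1]; rfl))
      map_one' := AlgEquiv.ext fun y => hφ1 y
      map_mul' := fun g h => AlgEquiv.ext fun y => (hφφ g h y).symm }
  have hker : ∀ g, ψ g = 1 → g ∈ C := fun g hg => mem_centralizer_iff.2 fun a ha => by
    have h1 : ρ g * ρ a * ρ g⁻¹ = ρ a :=
      congrArg Subtype.val (DFunLike.congr_fun hg (⟨ρ a, mem_algebraOf ρ ha⟩ : R))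
    rw [← map_mul, ← map_mul] at h1
    calc a * g = g * a * g⁻¹ * g := by rw [hinj h1]
      _ = g * a := by group
  have hidx : C.index ≤ Module.finrank k R := by
    have h1 : C.index ≤ Nat.card ψ.range := by
      rw [← index_ker]
      refine Nat.le_of_dvd (Nat.pos_of_ne_zero index_ne_zero_of_finite) (index_dvd_of_le fun g hg => ?_)
      exact hker g (MonoidHom.mem_ker.1 hg)
    refine h1.trans ((card_le_card_group ψ.range).trans ?_)
    rw [Nat.card_eq_fintype_card]
    exact AlgEquiv.card_le
  refine ⟨C, Module.finrank k R, Module.finrank R V, m, inferInstance, Module.finrank_pos,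
    (Module.finrank_mul_finrank k R V).symm, hidx, hm1, hmr, hbound, fun v hv a ha b hb hav hbv => ?_⟩
  have hz : ⁅(a : X), (b : X)⁆ ∈ zC C :=
    hset.commutator_fitC _ ⟨a, ha, rfl⟩ _ ⟨b, hb, rfl⟩
  have hinv : ∀ g : X, ρ g v = v → ρ g⁻¹ v = v := fun g hg => by
    conv_lhs => rw [← hg]
    rw [rep_inv_apply]
  have hfix : ρ ⁅(a : X), (b : X)⁆ v = v := by
    rw [commutatorElement_def, map_mul, map_mul, map_mul, Module.End.mul_apply, Module.End.mul_apply,
      Module.End.mul_apply, hinv _ hbv, hinv _ hav, hbv, hav]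
  let y : R := ⟨ρ ⁅(a : X), (b : X)⁆, mem_algebraOf ρ (hzA hz)⟩ - 1
  have hy0 : y = 0 := by
    by_contra hne
    apply hv
    have h1 : (y : Module.End k V) v = 0 := by
      show (ρ ⁅(a : X), (b : X)⁆ - 1) v = 0
      rw [LinearMap.sub_apply, hfix, Module.End.one_apply, sub_self]
    have h2 : ((y⁻¹ * y : R) : Module.End k V) v = v := by
      rw [inv_mul_cancel₀ hne]
      rfl
    rw [← h2]
    show ((y⁻¹ : R) : Module.End k V) ((y : Module.End k V) v) = 0
    rw [h1, map_zero]
  have h1 : ρ ⁅(a : X), (b : X)⁆ = ρ 1 := by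
    rw [map_one]
    exact sub_eq_zero.1 (congrArg Subtype.val hy0)
  exact Subtype.ext (commutatorElement_eq_one_iff_mul_comm.1 (hinj h1))

/-- The coprime case with abelian stabilizers: at most as many classes as vectors. -/
theorem affK_le_card {p : ℕ} [Fact p.Prime] {V : Type*} [AddCommGroup V] [Module (ZMod p) V]
    [Finite V] {F : Type*} [Group F] [Finite F] (ρ : F →* Module.End (ZMod p) V)
    (hinj : Function.Injective ρ) (hF : ¬ p ∣ Nat.card F) (v : V)
    (hab : ∀ a b : F, ρ a v = v → ρ b v = v → a * b = b * a) : affK ρ ≤ Nat.card V := by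
  let N : Subgroup (Aff ρ) := (SemidirectProduct.inl : Multiplicative V →* Aff ρ).range
  let K : Subgroup (Aff ρ) := (SemidirectProduct.inr : F →* Aff ρ).range
  have hN : N = (SemidirectProduct.rightHom : Aff ρ →* F).ker :=
    SemidirectProduct.range_inl_eq_ker_rightHom
  haveI : N.Normal := hN ▸ inferInstance
  have hcard : Nat.card N = Nat.card V :=
    (Nat.card_congr (MonoidHom.ofInjective SemidirectProduct.inl_injective).toEquiv.symm).trans
      (Nat.card_congr Multiplicative.toAdd)
  have hidx : N.index = Nat.card F := by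
    rw [hN, Subgroup.index_ker, MonoidHom.range_eq_top.2 SemidirectProduct.rightHom_surjective,
      Subgroup.card_top]
  have hmem : ∀ x : Aff ρ, x ∈ N ↔ x.right = 1 := fun x => by
    rw [hN, MonoidHom.mem_ker, SemidirectProduct.rightHom_eq_right]
  have hconj : ∀ (g : F) (w : V), (SemidirectProduct.inr g : Aff ρ) *
      SemidirectProduct.inl (Multiplicative.ofAdd w) =
        SemidirectProduct.inl (Multiplicative.ofAdd (ρ g w)) * SemidirectProduct.inr g := fun g w => by
    apply SemidirectProduct.ext <;> simp [actHom_apply]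
  have hexp : ∀ x ∈ N, x ^ p = 1 := by
    rintro _ ⟨w, rfl⟩
    rw [← map_pow, show w ^ p = 1 from Multiplicative.toAdd.injective (by
      rw [toAdd_pow, toAdd_one, ← Nat.cast_smul_eq_nsmul (ZMod p), ZMod.natCast_self, zero_smul]),
      map_one]
  have hself : Subgroup.centralizer (N : Set (Aff ρ)) = N := by
    refine le_antisymm (fun x hx => (hmem x).2 (hinj ?_)) fun x hx => ?_
    · refine LinearMap.ext fun w => ?_
      rw [map_one, Module.End.one_apply]
      have h := Subgroup.mem_centralizer_iff.1 hx _ ⟨Multiplicative.ofAdd w, rfl⟩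
      have h1 := congrArg (fun y : Aff ρ => y.left.toAdd) h
      simp only [SemidirectProduct.mul_left, SemidirectProduct.left_inl, SemidirectProduct.right_inl,
        map_one, MulAut.one_apply, actHom_apply, toAdd_mul, toAdd_ofAdd] at h1
      exact (add_left_cancel (h1.symm.trans (add_comm _ _)))
    · refine Subgroup.mem_centralizer_iff.2 ?_
      rintro _ ⟨a, rfl⟩
      obtain ⟨b, rfl⟩ := hx
      rw [← map_mul, ← map_mul, mul_comm]
  have hcompl : Subgroup.IsComplement' N K := by
    refine Subgroup.isComplement'_of_card_mul_and_disjoint ?_ ?_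
    · have hK : Nat.card K = Nat.card F :=
        Nat.card_congr (MonoidHom.ofInjective SemidirectProduct.inr_injective).toEquiv.symm
      rw [hK, ← hidx, Subgroup.card_mul_index]
    · rw [Subgroup.disjoint_def]
      rintro _ hx ⟨g, rfl⟩
      rw [hmem, SemidirectProduct.right_inr] at hx
      rw [hx, map_one]
  refine (Cfsg.Agent.S4958.result p N hexp (hidx ▸ hF) hself K hcompl
    (SemidirectProduct.inl (Multiplicative.ofAdd v)) ⟨_, rfl⟩ ?_).trans hcard.le
  have hst : ∀ g : F, (SemidirectProduct.inr g : Aff ρ) ∈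
      Subgroup.centralizer ({SemidirectProduct.inl (Multiplicative.ofAdd v)} : Set (Aff ρ)) →
      ρ g v = v := fun g hg => by
    have h := Subgroup.mem_centralizer_singleton_iff.1 hg
    rw [hconj] at h
    exact Multiplicative.ofAdd.injective (SemidirectProduct.inl_injective (mul_right_cancel h))
  rintro _ ⟨⟨a, rfl⟩, ha⟩ _ ⟨⟨b, rfl⟩, hb⟩
  rw [← map_mul, ← map_mul, hab a b (hst a ha) (hst b hb)]

end CfsgLib.BlockBound51
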