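import Cfsg.Agent.Lib.BlockBound51.Aff
import Cfsg.Agent.Lib.HallHigman.Setup
import Cfsg.Agent.S4965
import Mathlib

/-!
# Class numbers of solvable groups without a normal `p'`-subgroup
-/

set_option autoImplicit false
set_option linter.style.haveILetI false

namespace CfsgLib.BlockBound51

open Cfsg Subgroup CfsgLib.ClassBound

variable {p : ℕ} [Fact p.Prime]

/-- A representation over `ZMod p` from an action by additive maps. -/
noncomputable def zrep {X W : Type*} [Group X] [AddCommGroup W] [Module (ZMod p) W]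
    (act : X → (W →+ W)) (h1 : ∀ w, act 1 w = w) (hmul : ∀ x y w, act (x * y) w = act x (act y w)) :
    X →* Module.End (ZMod p) W where
  toFun x := AddMonoidHom.toZModLinearMap p (act x)
  map_one' := LinearMap.ext fun w => h1 w
  map_mul' x y := LinearMap.ext fun w => hmul x y w

theorem zrep_apply {X W : Type*} [Group X] [AddCommGroup W] [Module (ZMod p) W]
    (act : X → (W →+ W)) (h1 : ∀ w, act 1 w = w) (hmul : ∀ x y w, act (x * y) w = act x (act y w))
    (x : X) (w : W) : zrep (p := p) act h1 hmul x w = act x w := rfl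

/-- An elementary abelian self-centralizing `p`-core. -/
theorem elem_core_bound {Q : Type} [Group Q] [Finite Q] (hsol : Group.IsSolvable Q) (V : Subgroup Q)
    [V.Normal] (hV : V = pCore p Q) (hc : ∀ a ∈ V, ∀ b ∈ V, a * b = b * a)
    (he : ∀ a ∈ V, a ^ p = 1) (hself : centralizer (V : Set Q) = V) {n : ℕ} (hn : 0 < n)
    (hcard : Nat.card V = p ^ n) : 3 * Nat.card (ConjClasses Q) ≤ p ^ n * 3 ^ n := by
  haveI := hsol
  letI : CommGroup V :=
    { (inferInstance : Group V) with mul_comm := fun a b => Subtype.ext (hc a a.2 b b.2) }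
  letI : Module (ZMod p) (Additive V) := AddCommGroup.zmodModule (n := p) fun w =>
    Additive.toMul.injective (Subtype.ext (he _ (Additive.toMul w).2))
  have hle : V ≤ (MulAut.conjNormal : Q →* MulAut V).ker := fun x hx =>
    MonoidHom.mem_ker.2 (MulEquiv.ext fun v => Subtype.ext (by
      rw [MulAut.conjNormal_apply, hc x hx v v.2, mul_inv_cancel_right]
      rfl))
  let φ : Q ⧸ V →* MulAut V := QuotientGroup.lift V MulAut.conjNormal hle
  have hφ : ∀ (x : Q) (v : V), ((φ (QuotientGroup.mk x) v : V) : Q) = x * v * x⁻¹ :=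
    fun x v => MulAut.conjNormal_apply x v
  let act : Q ⧸ V → (Additive V →+ Additive V) := fun x =>
    { toFun := fun w => Additive.ofMul (φ x (Additive.toMul w))
      map_zero' := by simp
      map_add' := fun a b => by simp }
  let ρ : Q ⧸ V →* Module.End (ZMod p) (Additive V) := zrep act
    (fun w => congrArg Additive.ofMul (DFunLike.congr_fun (map_one φ) (Additive.toMul w)))
    (fun x y w => congrArg Additive.ofMul (DFunLike.congr_fun (map_mul φ x y) (Additive.toMul w)))
  have hinj : Function.Injective ρ := by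
    refine (injective_iff_map_eq_one _).2 fun x hx => ?_
    obtain ⟨g, rfl⟩ := QuotientGroup.mk_surjective x
    refine (QuotientGroup.eq_one_iff g).2 (hself.le (mem_centralizer_iff.2 fun v hv => ?_))
    have h : φ (g : Q ⧸ V) ⟨v, hv⟩ = ⟨v, hv⟩ :=
      Additive.ofMul.injective (LinearMap.congr_fun hx (Additive.ofMul (⟨v, hv⟩ : V)))
    have h' : g * v * g⁻¹ = v := by
      have := congrArg Subtype.val h
      rwa [hφ] at this
    calc v * g = g * v * g⁻¹ * g := by rw [h']
      _ = g * v := by group
  have hnp : NoP p (Q ⧸ V) := by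
    subst hV
    exact noP_iff.2 CfsgLib.PCore.pCore_quotient_pCore
  have hfr : Module.finrank (ZMod p) (Additive V) = n := by
    refine Nat.pow_right_injective (Fact.out : p.Prime).two_le ?_
    refine Eq.trans ?_ hcard
    refine Eq.trans ?_ (Nat.card_congr (Additive.toMul (α := V)))
    rw [Module.natCard_eq_pow_finrank (K := ZMod p), Nat.card_zmod]
  have h1 := affBound n (Q ⧸ V) (Additive V) ρ inferInstance hinj hnp hfr hn
  refine le_trans (Nat.mul_le_mul_left 3 ?_) h1
  refine (Cfsg.Agent.S4965.result V hc φ hφ).trans ?_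
  let j : Aff ρ →* SemidirectProduct V (Q ⧸ V) φ :=
    SemidirectProduct.map
      { toFun := fun w => Additive.toMul w.toAdd
        map_one' := rfl
        map_mul' := fun a b => rfl } (MonoidHom.id _) fun x => MonoidHom.ext fun w => rfl
  exact card_conjClasses_le_of_surjective j fun y =>
    ⟨⟨Multiplicative.ofAdd (Additive.ofMul y.left), y.right⟩, SemidirectProduct.ext rfl rfl⟩

universe u

/-- A solvable group without normal `p'`-subgroups has at most `3 ^ (d - 1) * p ^ d` classes,
where `p ^ d` is the order of its Sylow `p`-subgroups. -/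
theorem card_conjClasses_le_of_core {G : Type u} [Group G] [Finite G] (hsol : Group.IsSolvable G)
    (h0 : pPrimeCore p G = ⊥) :
    Nat.card (ConjClasses G) ≤
      3 ^ ((Nat.card G).factorization p - 1) * p ^ (Nat.card G).factorization p := by
  haveI := hsol
  have hps : IsPSolvable p G := CfsgLib.PCore.isPSolvable_of_isSolvable
  obtain ⟨hc, he, hself⟩ := CfsgLib.HallHigman.frattini_quotient_props hps h0
  set F := pCore p G with hF
  set Φ := HallHigman.frattiniCore p G with hΦ
  haveI : Φ.Normal := inferInstance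
  haveI hFn : F.Normal := CfsgLib.Fitting.pCore_normal p
  set f := QuotientGroup.mk' Φ with hf
  obtain ⟨Q0, _, _, ⟨e⟩⟩ := Finite.exists_type_univ_nonempty_mulEquiv.{u, 0} (G ⧸ Φ)
  haveI : Finite Q0 := Finite.of_equiv _ e.toEquiv
  let g : G →* Q0 := e.toMonoidHom.comp f
  have hg : Function.Surjective g := e.surjective.comp (QuotientGroup.mk'_surjective Φ)
  let V := F.map g
  haveI : V.Normal := hFn.map g hg
  have hVmap : V = (F.map f).map e.toMonoidHom := (Subgroup.map_map _ _ _).symm
  have hΦF : Φ ≤ F := HallHigman.frattiniCore_le p G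
  have hFp : IsPGroup p F := CfsgLib.PCore.pCore_isPGroup
  have hΦp : IsPGroup p Φ := hFp.to_le hΦF
  have hV : V = pCore p Q0 := by
    rw [hVmap, hf, hF, CfsgLib.PCore.map_pCore_quotient hΦp]
    exact CfsgLib.PCore.map_pCore_equiv e
  have hc' : ∀ a ∈ V, ∀ b ∈ V, a * b = b * a := by
    rw [hVmap]
    rintro _ ⟨a, ha, rfl⟩ _ ⟨b, hb, rfl⟩
    rw [← map_mul, ← map_mul, hc a ha b hb]
  have he' : ∀ a ∈ V, a ^ p = 1 := by
    rw [hVmap]
    rintro _ ⟨a, ha, rfl⟩
    rw [← map_pow, he a ha, map_one]
  have hself' : centralizer (V : Set Q0) = V := by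
    refine le_antisymm (fun x hx => ?_) fun x hx => mem_centralizer_iff.2 fun b hb => hc' b hb x hx
    obtain ⟨y, rfl⟩ := e.surjective x
    rw [hVmap]
    refine ⟨y, hself.le (mem_centralizer_iff.2 fun a ha => e.injective ?_), rfl⟩
    rw [map_mul, map_mul]
    exact mem_centralizer_iff.1 hx (e a) (hVmap ▸ ⟨a, ha, rfl⟩)
  obtain ⟨n, hn⟩ := ((hFp.map g : IsPGroup p V)).exists_card_eq
  obtain ⟨a, ha⟩ := hFp.exists_card_eq
  obtain ⟨b, hb⟩ := hΦp.exists_card_eq
  have hp := (Fact.out : p.Prime)
  have hab : a = b + n := by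
    refine Nat.pow_right_injective hp.two_le (show p ^ a = p ^ (b + n) from ?_)
    have hV' : Nat.card V = Φ.relIndex F := by
      rw [hVmap, Subgroup.card_map_of_injective e.injective, hf, CfsgLib.PCore.card_map_mk']
    rw [pow_add, ← ha, ← hb, ← hn, hV', ← relIndex_bot_left, ← relIndex_bot_left,
      relIndex_mul_relIndex _ _ _ bot_le hΦF]
  set d := (Nat.card G).factorization p with hd
  have had : a ≤ d :=
    (hp.pow_dvd_iff_le_factorization Nat.card_pos.ne').1 (ha ▸ Subgroup.card_subgroup_dvd_card F)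
  have hk : Nat.card (ConjClasses G) ≤ p ^ b * Nat.card (ConjClasses Q0) := by
    refine (Cfsg.Agent.S4201.result Φ).trans (Nat.mul_le_mul
      ((card_conjClasses_le _).trans hb.le) ?_)
    exact card_conjClasses_le_of_surjective e.symm.toMonoidHom e.symm.surjective
  rcases Nat.eq_zero_or_pos n with rfl | hnpos
  · have hbot : V = ⊥ := Subgroup.eq_bot_of_card_le _ (by rw [hn, pow_zero])
    rw [hbot] at hself'
    have : Nat.card (ConjClasses Q0) ≤ 1 := by
      have htop : (⊤ : Subgroup Q0) = ⊥ := by
        rw [← hself']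
        exact (eq_top_iff.2 fun x _ => mem_centralizer_iff.2 fun y hy => by
          rw [mem_bot.1 hy, one_mul, mul_one]).symm
      refine (card_conjClasses_le Q0).trans ?_
      rw [← Subgroup.card_top, htop, Subgroup.card_bot]
    calc Nat.card (ConjClasses G) ≤ p ^ b * 1 := hk.trans (Nat.mul_le_mul_left _ this)
      _ = 1 * p ^ b := mul_comm _ _
      _ ≤ _ := Nat.mul_le_mul (Nat.one_le_pow _ _ (by norm_num))
          (Nat.pow_le_pow_right hp.pos (by omega))
  have hsol0 : Group.IsSolvable Q0 := Group.isSolvable_of_surjective hg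
  have h3 := elem_core_bound hsol0 V hV hc' he' hself' hnpos hn
  refine Nat.le_of_mul_le_mul_left (?_ : 3 * _ ≤ 3 * _) (by norm_num : 0 < 3)
  calc 3 * Nat.card (ConjClasses G) ≤ 3 * (p ^ b * Nat.card (ConjClasses Q0)) :=
        Nat.mul_le_mul_left _ hk
    _ = p ^ b * (3 * Nat.card (ConjClasses Q0)) := mul_left_comm _ _ _
    _ ≤ p ^ b * (p ^ n * 3 ^ n) := Nat.mul_le_mul_left _ h3
    _ = 3 ^ n * p ^ a := by rw [hab, pow_add]; ring
    _ ≤ 3 ^ d * p ^ d :=
        Nat.mul_le_mul (Nat.pow_le_pow_right (by norm_num) (by omega))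
          (Nat.pow_le_pow_right hp.pos had)
    _ = _ := by rw [← mul_assoc, ← pow_succ', Nat.sub_add_cancel (by omega)]

end CfsgLib.BlockBound51
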