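import Cfsg.Agent.Lib.BlockBound51.Quot
import Cfsg.Agent.Lib.RelMcKay.GoodBasis
import Cfsg.Agent.Lib.BlockCover.FongReynoldsBlocks
import Cfsg.Agent.Lib.WeightedSum.Over
import Cfsg.Agent.Lib.Blk7.Fong
import Mathlib

/-!
# The number of characters in a block of a solvable group
-/

set_option autoImplicit false
set_option linter.style.haveILetI false

namespace CfsgLib.BlockBound51

open Cfsg CfsgLib.Characters CfsgLib.Blocks CfsgLib.CharCorr

universe u

/-- At most as many characters over an invariant character as classes of the quotient. -/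
theorem card_over_le_quotient {G : Type u} [Group G] [Fintype G] (K : Subgroup G) [hK : K.Normal]
    [Fintype K] (θ : IrrCharacter K)
    (hinv : ∀ (g : G) (m : K), (θ : K → ℂ) ⟨g * m * g⁻¹, hK.conj_mem m m.2 g⟩ = (θ : K → ℂ) m) :
    Nat.card {χ : IrrCharacter G // classInner (fun m : K => (χ : G → ℂ) m) (θ : K → ℂ) ≠ 0} ≤
      Nat.card (ConjClasses (G ⧸ K)) := by
  classical
  have S : RelMcKay.InvSetting θ (⊤ : Subgroup G) :=
    ⟨le_top, by rw [Subgroup.normalizer_eq_top_iff.2 hK], fun g _ l l' h => by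
      rw [← hinv g l]
      exact congrArg _ (Subtype.ext h)⟩
  have h := RelMcKay.card_over_eq S ⊤ le_rfl fun t _ => ⟨1, K.one_mem, t, trivial, one_mul t⟩
  have heq : Nat.card {χ : IrrCharacter G // classInner (fun m : K => (χ : G → ℂ) m) (θ : K → ℂ) ≠ 0}
      = Nat.card {χ : IrrCharacter (⊤ : Subgroup G) //
          RelMcKay.Over (Subgroup.inclusion S.le) θ χ} := by
    refine Nat.card_congr ((RelMcKay.irrEquiv Subgroup.topEquiv.symm).subtypeEquiv fun χ => ?_)
    rw [RelMcKay.over_iff]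
    rfl
  rw [heq, h]
  let f : Quot (RelMcKay.goodRel θ ⊤ ⊤) → ConjClasses (G ⧸ K) :=
    Quot.lift (fun y => ConjClasses.mk ((y.1 : G) : G ⧸ K)) fun y y' ⟨z, _, hz⟩ => by
      refine ConjClasses.mk_eq_mk_iff_isConj.2 (isConj_iff.2 ⟨(z : G ⧸ K), ?_⟩)
      rw [← QuotientGroup.mk_inv, ← QuotientGroup.mk_mul, ← QuotientGroup.mk_mul,
        QuotientGroup.eq_iff_div_mem, div_eq_mul_inv]
      exact hz
  refine Nat.card_le_card_of_injective f ?_
  rintro ⟨y⟩ ⟨y'⟩ e
  obtain ⟨c, hc⟩ := isConj_iff.1 (ConjClasses.mk_eq_mk_iff_isConj.1 e)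
  obtain ⟨z, rfl⟩ := QuotientGroup.mk_surjective c
  rw [← QuotientGroup.mk_inv, ← QuotientGroup.mk_mul, ← QuotientGroup.mk_mul,
    QuotientGroup.eq_iff_div_mem, div_eq_mul_inv] at hc
  exact Quot.sound ⟨z, trivial, hc⟩

variable {p : ℕ} [hp : Fact p.Prime] {M : Ideal AlgInt}

theorem blockSize_aux (hM : IsPModular p M) :
    ∀ (n : ℕ) (G : Type u) [Group G] [Fintype G], Nat.card G < n → Group.IsSolvable G →
      ∀ B : Set (IrrCharacter G), IsPBlock M B → 0 < blockDefect p B →
        B.ncard ≤ 3 ^ (blockDefect p B - 1) * p ^ blockDefect p B := by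
  classical
  intro n
  induction n with
  | zero => intro G _ _ h; omega
  | succ n ih =>
    intro G _ _ hcardG hsol B hB hd
    haveI := hsol
    have hps : IsPSolvable p G := CfsgLib.PCore.isPSolvable_of_isSolvable
    obtain ⟨χ, hχ⟩ := IsPBlock.nonempty hM hB
    set K := pPrimeCore p G with hK
    haveI : Fintype K := Fintype.ofFinite _
    have hKp : ¬ p ∣ Nat.card K := CfsgLib.PCore.not_dvd_card_pPrimeCore
    obtain ⟨θ, hθ⟩ := BlockCover.exists_constituent K χ
    set b : Set (IrrCharacter K) := {θ} with hbdef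
    have hb : IsPBlock M b := WeightedSum.isPBlock_singleton hM hKp θ
    set T : Subgroup G :=
      { carrier := {g | conjIrr K g θ = θ}
        one_mem' := BlockCover.conjIrr_one K θ
        mul_mem' := fun {a c} ha hc => by
          show conjIrr K (a * c) θ = θ
          rw [← BlockCover.conjIrr_comp, ha, hc]
        inv_mem' := fun {a} ha => by
          show conjIrr K a⁻¹ θ = θ
          conv_lhs => rw [← ha, BlockCover.conjIrr_comp, mul_inv_cancel, BlockCover.conjIrr_one] }
      with hTdef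
    have hT : ∀ g : G, g ∈ T ↔ ∀ θ' ∈ b, conjIrr K g θ' ∈ b := fun g => by
      simp [b, T]
    haveI : Fintype T := Fintype.ofFinite _
    have hKT : K ≤ T := fun k hk => by
      show conjIrr K k θ = θ
      refine Subtype.ext (funext fun m => ?_)
      rw [conjIrr_apply]
      exact (congrArg (θ : K → ℂ) (Subtype.ext (by simp))).trans (irr_isClassFunction θ m ⟨k, hk⟩)
    by_cases htop : T = ⊤
    · have hinv : ∀ (g : G) (m : K),
          (θ : K → ℂ) ⟨g * m * g⁻¹, (inferInstance : K.Normal).conj_mem m m.2 g⟩ = (θ : K → ℂ) m := by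
        intro g m
        have h1 : conjIrr K g θ = θ :=
          show g ∈ T from htop.ge (Subgroup.mem_top g)
        conv_rhs => rw [← h1, conjIrr_apply]
      have hmem : ∀ ψ ∈ B, classInner (fun m : K => (ψ : G → ℂ) m) (θ : K → ℂ) ≠ 0 := fun ψ hψ =>
        constituent_of_sameBlock hM hKp ((IsPBlock.mem_iff hM hB hχ ψ).1 hψ) θ hθ
      have hfull := CfsgLib.Fong.blockDefect_eq K hM hps hK θ hinv hB fun ψ hψ m =>
        CfsgLib.Fong.restrict_eq K θ.2 hinv (hmem ψ hψ) m
      have hcount : B.ncard ≤ Nat.card (ConjClasses (G ⧸ K)) := by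
        rw [← Nat.card_coe_set_eq]
        exact (Nat.card_le_card_of_injective
          (fun ψ : B => (⟨ψ.1, hmem ψ.1 ψ.2⟩ :
            {χ : IrrCharacter G // classInner (fun m : K => (χ : G → ℂ) m) (θ : K → ℂ) ≠ 0}))
          fun a c e => Subtype.ext (Subtype.mk.inj e)).trans (card_over_le_quotient K θ hinv)
      have hfac : (Nat.card (G ⧸ K)).factorization p = (Nat.card G).factorization p := by
        rw [Subgroup.card_eq_card_quotient_mul_card_subgroup K,
          Nat.factorization_mul Nat.card_pos.ne' Nat.card_pos.ne', Finsupp.add_apply,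
          Nat.factorization_eq_zero_of_not_dvd hKp, add_zero]
      refine hcount.trans (le_of_le_of_eq (card_conjClasses_le_of_core inferInstance
        CfsgLib.PCore.pPrimeCore_quotient_pPrimeCore) ?_)
      rw [hfac, hfull]
    have hlt : Nat.card T < n :=
      lt_of_lt_of_le (lt_of_le_of_ne (Subgroup.card_le_card_group T)
        fun h => htop (Subgroup.eq_top_of_card_eq T h)) (Nat.lt_succ_iff.1 hcardG)
    obtain ⟨ψ₀, hcov, hψ₀χ⟩ := BlockCover.exists_of_covers K b T hT hKT hM hb ⟨θ, rfl, hθ⟩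
    set B' := blockOf M (ψ₀ : T → ℂ) with hB'def
    have hB' : IsPBlock M B' := isPBlock_blockOf ψ₀
    have hψ₀ : ψ₀ ∈ B' := mem_blockOf_self hM ψ₀
    obtain ⟨B₂, hind, -, hirr, hmem⟩ :=
      BlockCover.fongReynolds_induced K b T hKT hT hM hb hB' hψ₀ hcov
    have hBB : B₂ = B := by
      have h1 := (hmem χ).2 ⟨ψ₀, hψ₀, hψ₀χ⟩
      rw [IsPBlock.eq_blockOf hM hind.2.1 h1, IsPBlock.eq_blockOf hM hB hχ]
    subst hBB
    have hle : B₂.ncard ≤ B'.ncard := by
      let Φ : B' → B₂ := fun ψ => ⟨⟨_, hirr ψ.1 ψ.2⟩, (hmem _).2 ⟨ψ.1, ψ.2, rfl⟩⟩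
      rw [← Nat.card_coe_set_eq, ← Nat.card_coe_set_eq]
      refine Nat.card_le_card_of_surjective Φ fun η => ?_
      obtain ⟨ψ, hψ, he⟩ := (hmem η.1).1 η.2
      exact ⟨⟨ψ, hψ⟩, Subtype.ext (Subtype.ext he.symm)⟩
    obtain ⟨E, hE⟩ : ∃ E : Subgroup T, IsDefectGroup p M B' E := exists_isDefectGroup hM hB'
    have hE' := (BlockCover.fongReynolds_defect K b T hKT hT hM hb hB' hψ₀ hcov hind).1 E hE
    have hdd : blockDefect p B₂ = blockDefect p B' := by
      refine Nat.pow_right_injective hp.out.two_le (show p ^ _ = p ^ _ from ?_)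
      rw [← BlockCover.natCard_defect hM hB hE', ← BlockCover.natCard_defect hM hB' hE]
      exact Subgroup.card_map_of_injective T.subtype_injective
    rw [hdd] at hd ⊢
    exact hle.trans (ih T hlt inferInstance B' hB' hd)

end CfsgLib.BlockBound51
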